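import Groth.Agent.HilbObsTh.Transport
import Groth.Agent.HilbGlueLib.TangentDim
import Groth.Agent.HilbGlueLib.Universal
import Groth.Agent.HilbSmoothLib.Regular
import Groth.Agent.ObsBoundLib.Basic
import Groth.Agent.ArtLib.Power
import Groth.Agent.CohenLib.FSRegular
import Groth.Agent.CohenLib.FlatUnramified
import Groth.Agent.CommAlgDim.CM

/-!
# Dimension bounds for pro-representing rings and for completions
-/

set_option autoImplicit false
set_option linter.style.haveILetI false
set_option linter.unusedSectionVars false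
set_option backward.isDefEq.respectTransparency false
set_option backward.isDefEq.respectTransparency.types false
set_option maxHeartbeats 1000000
universe u v

open CategoryTheory CategoryTheory.Limits AlgebraicGeometry IsLocalRing
open ArtFun

noncomputable section

namespace HilbObsTh

variable {k : Type u} [Field k]

/-- Coordinates count the dimension of the cotangent space. -/
theorem finrank_cotangent_of_coordinates (R : CRing k k) {n : ℕ} (x : Fin n → R.carrier)
    (hx : ∀ a : Fin n → k, ∃! φ : HomSet R.carrier R.res (Art.dual k k),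
      ∀ i, TrivSqZeroExt.snd (φ.1 (x i)) = a i) :
    Module.finrank (ResidueField R.carrier) (CotangentSpace R.carrier) = n := by
  let Φ : Module.Dual k (maximalIdeal R.carrier).Cotangent →ₗ[k] (Fin n → k) :=
    { toFun := fun f i => f (HilbGlueLib.lin R.res (x i))
      map_add' := fun f g => rfl
      map_smul' := fun c f => rfl }
  have hΦ : ∀ f i, TrivSqZeroExt.snd ((HilbGlueLib.ptD R.res f).1 (x i)) = Φ f i := fun f i => rfl
  have hbij : Function.Bijective Φ := by
    refine ⟨fun f g h => HilbGlueLib.ptD_bijective.1 ((hx (Φ f)).unique (hΦ f) fun i => ?_), fun a => ?_⟩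
    · rw [hΦ, h]
    · obtain ⟨φ, hφ, -⟩ := hx a
      obtain ⟨f, rfl⟩ := HilbGlueLib.ptD_bijective.2 φ
      exact ⟨f, funext fun i => (hΦ f i).symm.trans (hφ i)⟩
  rw [HilbGlueLib.finrank_residue R.res, ← Subspace.dual_finrank_eq, (LinearEquiv.ofBijective Φ hbij).finrank_eq,
    Module.finrank_fin_fun]

/-- A complete local algebra is regular iff its functor of points is smooth. -/
theorem isRegular_iff_smooth (R : CRing k k) :
    IsRegularLocalRing R.carrier ↔ IsSmoothFunctor (hR R.carrier R.res) := by
  refine ⟨fun hreg => ?_, fun h => HilbSmoothLib.isRegularLocalRing_of_isSmoothFunctor R.carrier R.res h⟩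
  have hk : Function.Surjective (algebraMap k k) := fun c => ⟨c, rfl⟩
  haveI := hreg
  obtain ⟨n, x, hx0, hx⟩ := ArtLib.exists_coordinates hk R
  obtain ⟨g, -, hsurj, -⟩ := ArtLib.exists_psSurj hk R x hx0 hx
  have hd : (maximalIdeal R.carrier).spanFinrank = n := by
    rw [IsLocalRing.spanFinrank_maximalIdeal_eq_finrank_cotangentSpace]
    exact finrank_cotangent_of_coordinates R x hx
  have hb := CohenLib.bijective_of_regular (L := k) g.toRingHom hsurj hd
  exact ArtLib.isSmoothFunctor_of_equiv hk (AlgEquiv.ofBijective g hb).symm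

theorem smooth_congr {F : Art k k ⥤ Type v} {R : Type u} [CommRing R] [Algebra k R] {res : R →ₐ[k] k}
    (ξ : Family R res F) (hξ : ∀ A, Function.Bijective (ξ.app A)) :
    IsSmoothFunctor (hR R res) ↔ IsSmoothFunctor F := by
  refine ⟨fun h B A μ hμ z => ?_, fun h B A μ hμ φ => ?_⟩
  · obtain ⟨φ, rfl⟩ := (hξ A).2 z
    obtain ⟨ψ, rfl⟩ := h μ hμ φ
    exact ⟨ξ.app B ψ, (ξ.natural μ ψ).symm⟩
  · obtain ⟨z, hz⟩ := h μ hμ (ξ.app A φ)
    obtain ⟨ψ, rfl⟩ := (hξ B).2 z
    exact ⟨ψ, (hξ A).1 ((ξ.natural μ ψ).trans hz)⟩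

theorem versal_of_bijective {F : Art k k ⥤ Type v} {R : Type u} [CommRing R] [Algebra k R] {res : R →ₐ[k] k}
    (ξ : Family R res F) (hξ : ∀ A, Function.Bijective (ξ.app A)) : IsVersal ξ := by
  intro B A μ _ φ y hy
  obtain ⟨ψ, rfl⟩ := (hξ B).2 y
  exact ⟨ψ, (hξ A).1 ((ξ.natural μ ψ).trans hy), rfl⟩

/-- The estimates for a pro-representing ring. -/
theorem estimates {F : Art k k ⥤ Type v} {V : Type u} [AddCommGroup V] [Module k V] [Module.Finite k V]
    (T : ObsTheory F V) (R : CRing k k) (ξ : Family R.carrier R.res F) (hξ : ∀ A, Function.Bijective (ξ.app A)) :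
    ringKrullDim R.carrier ≤
        (Module.finrank (ResidueField R.carrier) (CotangentSpace R.carrier) : WithBot ℕ∞) ∧
      (Module.finrank (ResidueField R.carrier) (CotangentSpace R.carrier) : WithBot ℕ∞) ≤
          ringKrullDim R.carrier + (Module.finrank k V : WithBot ℕ∞) ∧
      (ringKrullDim R.carrier = (Module.finrank (ResidueField R.carrier) (CotangentSpace R.carrier) : WithBot ℕ∞) ↔
        IsSmoothFunctor F) ∧
      (ringKrullDim R.carrier + (Module.finrank k V : WithBot ℕ∞) =
          (Module.finrank (ResidueField R.carrier) (CotangentSpace R.carrier) : WithBot ℕ∞) →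
        ∃ (P : Type u) (_ : CommRing P) (_ : IsRegularLocalRing P) (π : P →+* R.carrier) (s : Finset P),
          Function.Surjective π ∧ Ideal.span (s : Set P) = RingHom.ker π ∧
            ringKrullDim P = ringKrullDim R.carrier + (s.card : WithBot ℕ∞)) := by
  have hk : Function.Surjective (algebraMap k k) := fun c => ⟨c, rfl⟩
  obtain ⟨d, x, hx0, hx⟩ := ArtLib.exists_coordinates hk R
  obtain ⟨g, -, hsurj, -⟩ := ArtLib.exists_psSurj hk R x hx0 hx
  haveI := CohenLib.isRegularLocalRing_mvPowerSeries (L := k) d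
  obtain ⟨P, _, _, _, g', hg', hI⟩ := Groth.Agent.ObsBoundLib.exists_minimal_presentation _
    (MvPowerSeries (Fin d) k) g hsurj rfl
  obtain ⟨h1, h2, -, h4⟩ := Groth.Agent.ObsBoundLib.estimates g' hg' hI ξ (versal_of_bijective ξ hξ) T
  refine ⟨h1, h2, ?_, h4⟩
  rw [← smooth_congr ξ hξ, ← isRegular_iff_smooth, isRegularLocalRing_iff,
    IsLocalRing.spanFinrank_maximalIdeal_eq_finrank_cotangentSpace]
  exact eq_comm

/-- The completion of a local algebra with a universal family. -/
theorem exists_completion {F : Art k k ⥤ Type v} (R : Type u) [CommRing R] [IsLocalRing R] [IsNoetherianRing R]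
    [Algebra k R] (res : R →ₐ[k] k) (ξ : Family R res F) (hξ : ∀ A, Function.Bijective (ξ.app A)) :
    ∃ (C : CRing k k) (η : Family C.carrier C.res F), (∀ A, Function.Bijective (η.app A)) ∧
      Nonempty (AdicCompletion (maximalIdeal R) R ≃+* C.carrier) ∧
      ringKrullDim C.carrier = ringKrullDim R := by
  obtain ⟨hl, hN, -, hm, hres⟩ := CohenLib.completion_facts R (maximalIdeal R) (maximalIdeal.isMaximal R).ne_top
  have hc : IsAdicComplete (maximalIdeal (AdicCompletion (maximalIdeal R) R)) (AdicCompletion (maximalIdeal R) R) := by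
    rw [← hm]
    exact (IsAdicComplete.map_algebraMap_iff _ _).2
      (AdicCompletion.isAdicComplete (M := R) (IsNoetherian.noetherian _))
  have hker : RingHom.ker res = maximalIdeal R :=
    Ideal.ext fun r => (RingHom.mem_ker).trans (HilbGlueLib.res_eq_zero_iff r)
  let alg : R →ₐ[k] AdicCompletion (maximalIdeal R) R := IsScalarTower.toAlgHom k R _
  have hlift : ∀ r ∈ maximalIdeal R, res r = 0 := fun r hr => (HilbGlueLib.res_eq_zero_iff r).2 hr
  let resC : AdicCompletion (maximalIdeal R) R →ₐ[k] k :=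
    (Ideal.Quotient.liftₐ (maximalIdeal R) res hlift).comp
      ((AdicCompletion.evalOneₐ (maximalIdeal R)).restrictScalars k)
  have hresC : resC.comp alg = res := AlgHom.ext fun r => by
    show Ideal.Quotient.liftₐ (maximalIdeal R) res hlift (AdicCompletion.evalOneₐ (maximalIdeal R) (algebraMap R _ r)) = res r
    rw [AlgHom.commutes]
    rfl
  let C : CRing k k :=
    { carrier := AdicCompletion (maximalIdeal R) R
      res := resC
      res_surjective := fun c => ⟨algebraMap k _ c, resC.commutes c⟩
      isAdicComplete := hc }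
  let push : ∀ A, HomSet C.carrier C.res A → HomSet R res A := fun A φ =>
    ⟨φ.1.comp alg, by rw [← AlgHom.comp_assoc, φ.2]; exact hresC⟩
  have hpush : ∀ A, Function.Bijective (push A) := by
    intro A
    refine ⟨fun φ ψ h => Subtype.ext (AlgHom.ext fun z => ?_), fun φ => ?_⟩
    · -- both kill a power of the maximal ideal, and `R` is dense
      obtain ⟨N, hN'⟩ := ArtLib.homSet_pow (resP := C.res) φ
      obtain ⟨M, hM'⟩ := ArtLib.homSet_pow (resP := C.res) ψ
      have hkC : RingHom.ker (C.res : C.carrier →+* k) = maximalIdeal C.carrier :=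
        Ideal.ext fun r => (RingHom.mem_ker).trans (HilbGlueLib.res_eq_zero_iff (res := C.res) r)
      obtain ⟨r, hr⟩ := Ideal.Quotient.mk_surjective (AdicCompletion.evalₐ (maximalIdeal R) (N + M) z)
      have hd : z - algebraMap R _ r ∈ maximalIdeal (AdicCompletion (maximalIdeal R) R) ^ (N + M) := by
        rw [← hm, ← Ideal.map_pow, ← CohenLib.ker_evalₐ_eq_map (maximalIdeal R) (N + M) (IsNoetherian.noetherian _)]
        show AdicCompletion.evalₐ (maximalIdeal R) (N + M) (z - algebraMap R _ r) = 0
        rw [map_sub, AlgHom.commutes, sub_eq_zero]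
        exact hr.symm
      have e1 : φ.1 (z - algebraMap R _ r) = 0 :=
        hN' _ (Ideal.pow_le_pow_right (Nat.le_add_right N M) (hkC ▸ hd))
      have e2 : ψ.1 (z - algebraMap R _ r) = 0 :=
        hM' _ (Ideal.pow_le_pow_right (Nat.le_add_left M N) (hkC ▸ hd))
      rw [map_sub, sub_eq_zero] at e1 e2
      rw [e1, e2]
      exact congrArg (fun θ : HomSet R res A => θ.1 r) h
    · obtain ⟨N, hN'⟩ := ArtLib.homSet_pow (resP := res) φ
      have hkR : RingHom.ker (res : R →+* k) = maximalIdeal R := hker
      have hφ0 : ∀ r ∈ maximalIdeal R ^ (N + 1), φ.1 r = 0 := fun r hr =>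
        hN' r (Ideal.pow_le_pow_right (Nat.le_succ N) (hkR.symm ▸ hr))
      let ψ : AdicCompletion (maximalIdeal R) R →ₐ[k] A :=
        (Ideal.Quotient.liftₐ (maximalIdeal R ^ (N + 1)) φ.1 hφ0).comp
          ((AdicCompletion.evalₐ (maximalIdeal R) (N + 1)).restrictScalars k)
      have hψ : ∀ r, ψ (algebraMap R _ r) = φ.1 r := fun r => by
        show Ideal.Quotient.liftₐ (maximalIdeal R ^ (N + 1)) φ.1 hφ0 (AdicCompletion.evalₐ (maximalIdeal R) (N + 1) (algebraMap R _ r)) = _
        rw [AlgHom.commutes]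
        rfl
      refine ⟨⟨ψ, AlgHom.ext fun z => ?_⟩, Subtype.ext (AlgHom.ext hψ)⟩
      obtain ⟨r, hr⟩ := hres z
      have h1 : C.res (z - algebraMap R _ r) = 0 := (HilbGlueLib.res_eq_zero_iff (res := C.res) _).2 hr
      have h2 : A.res (ψ (z - algebraMap R _ r)) = 0 := by
        by_contra hne
        have hu : IsUnit (ψ (z - algebraMap R _ r)) := (ArtLib.isUnit_iff_res_ne_zero A _).2 hne
        have hnil : ψ ((z - algebraMap R _ r) ^ (N + 1)) = 0 := by
          have hp : (z - algebraMap R _ r) ^ (N + 1) ∈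
              maximalIdeal (AdicCompletion (maximalIdeal R) R) ^ (N + 1) := Ideal.pow_mem_pow hr _
          rw [← hm, ← Ideal.map_pow,
            ← CohenLib.ker_evalₐ_eq_map (maximalIdeal R) (N + 1) (IsNoetherian.noetherian _)] at hp
          show Ideal.Quotient.liftₐ (maximalIdeal R ^ (N + 1)) φ.1 hφ0 (AdicCompletion.evalₐ (maximalIdeal R) (N + 1) _) = 0
          exact (congrArg (Ideal.Quotient.liftₐ (maximalIdeal R ^ (N + 1)) φ.1 hφ0) (RingHom.mem_ker.1 hp)).trans
            (map_zero _)
        have h3 := hu.pow (N + 1)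
        rw [← map_pow, hnil] at h3
        exact not_isUnit_zero h3
      show A.res (ψ z) = C.res z
      rw [map_sub, map_sub, sub_eq_zero, hψ] at h2
      rw [map_sub, sub_eq_zero] at h1
      rw [h1, h2]
      exact (AlgHom.congr_fun φ.2 r).trans (AlgHom.congr_fun hresC r).symm
  refine ⟨C, ⟨fun A φ => ξ.app A (push A φ), fun μ φ => ξ.natural μ (push _ φ)⟩,
    fun A => (hξ A).comp (hpush A), ⟨RingEquiv.refl _⟩,
    CohenLib.ringKrullDim_adicCompletion R _ (maximalIdeal.isMaximal R).ne_top⟩

theorem isCompleteIntersection_of_presentation {R : Type u} [CommRing R] [IsLocalRing R] {C : Type u} [CommRing C]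
    [Nontrivial C] (e : AdicCompletion (maximalIdeal R) R ≃+* C) {P : Type u} [CommRing P] [IsRegularLocalRing P]
    (π : P →+* C) (s : Finset P) (hπ : Function.Surjective π) (hs : Ideal.span (s : Set P) = RingHom.ker π)
    (hdim : ringKrullDim P = ringKrullDim C + (s.card : WithBot ℕ∞)) : Pi1.IsCompleteIntersection R := by
  have hset : {r | r ∈ s.toList} = (s : Set P) := Set.ext fun r => Finset.mem_toList
  have hm : ∀ r ∈ s.toList, r ∈ maximalIdeal P := fun r hr =>
    le_maximalIdeal (RingHom.ker_ne_top π) (hs ▸ Ideal.subset_span (Finset.mem_toList.1 hr))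
  refine ⟨P, inferInstance, inferInstance, s.toList, hm,
    CommAlgDim.isRegular_of_dim (CommAlgDim.isCM_of_isRegularLocalRing P) hm ?_, ⟨e.trans ?_⟩⟩
  · rw [Finset.length_toList, hdim]
    refine add_le_add_left (le_of_eq (ringKrullDim_eq_of_ringEquiv ?_)) _
    exact (Ideal.quotEquivOfEq ((congrArg Ideal.span hset).trans hs)).trans (RingHom.quotientKerEquivOfSurjective hπ)
  · exact ((Ideal.quotEquivOfEq ((congrArg Ideal.span hset).trans hs)).trans
      (RingHom.quotientKerEquivOfSurjective hπ)).symm

end HilbObsTh
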