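import Groth.Agent.HilbGlueLib.Dual
import Groth.Agent.EtTwoLib.BasisHom

/-!
# Homomorphisms out of the pullback of an ideal sheaf to a closed subscheme
-/

set_option autoImplicit false
set_option linter.style.haveILetI false
set_option linter.unusedSectionVars false
set_option backward.isDefEq.respectTransparency false
set_option backward.isDefEq.respectTransparency.types false
set_option maxHeartbeats 1000000
universe u

open CategoryTheory CategoryTheory.Limits AlgebraicGeometry TopologicalSpace Opposite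
open KFlatLib (pb puSec puSecLE)
open HilbGlueLib (val val_add val_smul val_mem exists_val val_res)

noncomputable section

namespace HilbObsTh

variable {Y Z : Scheme.{u}} (g : Y ⟶ Z) [IsClosedImmersion g] (K : Z.IdealSheafData)

theorem val_injective (U : Z.Opens) : Function.Injective (val K U) := by
  haveI : Mono (ClSub.idealModι K) := inferInstanceAs (Mono (kernel.ι _))
  exact fun a b h => QCohLib.app_injective_of_mono (ClSub.idealModι K) U h

/-- Sections of the ideal module are elements of the ideal. -/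
def valEquiv (U : Z.affineOpens) : Γ(ClSub.idealMod K, U.1) ≃+ K.ideal U :=
  AddEquiv.ofBijective (AddMonoidHom.mk' (fun s => (⟨val K U.1 s, val_mem U s⟩ : K.ideal U))
    fun a b => Subtype.ext (val_add U.1 a b))
    ⟨fun a b h => val_injective K U.1 (congrArg Subtype.val h), fun a => by
      obtain ⟨s, hs⟩ := exists_val U a.1 a.2
      exact ⟨s, Subtype.ext hs⟩⟩

theorem val_valEquiv_symm (U : Z.affineOpens) (a : K.ideal U) : val K U.1 ((valEquiv K U).symm a) = a :=
  congrArg Subtype.val ((valEquiv K U).apply_symm_apply a)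

/-- The pullback of an element of the ideal. -/
def sec {U : Z.affineOpens} {W : Y.Opens} (h : W ≤ g ⁻¹ᵁ U.1) : K.ideal U →+ Γ(pb g (ClSub.idealMod K), W) :=
  (puSecLE g (ClSub.idealMod K) h).comp (valEquiv K U).symm.toAddMonoidHom

theorem valEquiv_symm_smul {U : Z.affineOpens} (r : Γ(Z, U.1)) (a : K.ideal U) :
    (valEquiv K U).symm (r • a) = r • (valEquiv K U).symm a := by
  refine val_injective K U.1 ?_
  rw [val_valEquiv_symm, val_smul, val_valEquiv_symm]
  rfl

theorem sec_smul {U : Z.affineOpens} {W : Y.Opens} (h : W ≤ g ⁻¹ᵁ U.1) (r : Γ(Z, U.1)) (a : K.ideal U) :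
    sec g K h (r • a) = (g.appLE U.1 W h).hom r • sec g K h a := by
  show puSecLE g _ h ((valEquiv K U).symm (r • a)) = _
  rw [valEquiv_symm_smul]
  exact KFlatLib.puSecLE_smul g _ h r _

theorem sec_closed {U : Z.affineOpens} {W : Y.Opens} (hW : W = g ⁻¹ᵁ U.1) :
    Function.Surjective (sec g K hW.le) ∧
      ∀ a, sec g K hW.le a = 0 ↔ (a : Γ(Z, U.1)) ∈ RingHom.ker (g.appLE U.1 W hW.le).hom * K.ideal U := by
  subst hW
  haveI : Coh.IsQCoh (ClSub.idealMod K) := SweepSix.ConormalSpec.isQCoh_idealMod K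
  have hid : ∀ m : Γ(ClSub.idealMod K, U.1), puSecLE g (ClSub.idealMod K) le_rfl m = puSec g m := fun m => by
    rw [KFlatLib.puSecLE_apply]
    exact congr($((pb g (ClSub.idealMod K)).presheaf.map_id (op (g ⁻¹ᵁ U.1))) (puSec g m))
  obtain ⟨hs, hk⟩ := HilbObsLib.puSec_closed g (ClSub.idealMod K) U.2
  refine ⟨fun y => ?_, fun a => ?_⟩
  · obtain ⟨m, rfl⟩ := hs y
    refine ⟨valEquiv K U m, ?_⟩
    show puSecLE g _ le_rfl ((valEquiv K U).symm (valEquiv K U m)) = _
    rw [AddEquiv.symm_apply_apply, hid]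
  · show puSecLE g _ le_rfl ((valEquiv K U).symm a) = 0 ↔ _
    rw [hid, hk, ← Scheme.Hom.app_eq_appLE]
    constructor
    · intro h
      rw [← val_valEquiv_symm K U a]
      refine Submodule.smul_induction_on h (fun r hr m _ => ?_) fun m m' hm hm' => by
        rw [val_add]; exact add_mem hm hm'
      rw [val_smul]
      exact Ideal.mul_mem_mul hr (val_mem U m)
    · intro h
      have key : ∀ z ∈ RingHom.ker (g.app U.1).hom * K.ideal U, ∃ m ∈ RingHom.ker (g.app U.1).hom •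
          (⊤ : Submodule Γ(Z, U.1) Γ(ClSub.idealMod K, U.1)), val K U.1 m = z := by
        intro z hz
        refine Submodule.mul_induction_on hz (fun r hr p hp => ?_) ?_
        · obtain ⟨m, rfl⟩ := exists_val U p hp
          exact ⟨r • m, Submodule.smul_mem_smul hr Submodule.mem_top, val_smul _ r m⟩
        · rintro _ _ ⟨m, hm, rfl⟩ ⟨m', hm', rfl⟩
          exact ⟨m + m', add_mem hm hm', val_add _ m m'⟩
      obtain ⟨m, hm, hma⟩ := key _ h
      rwa [val_injective K U.1 ((val_valEquiv_symm K U a).trans hma.symm)]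

theorem res_mem {U U' : Z.affineOpens} (h : U'.1 ≤ U.1) {a : Γ(Z, U.1)} (ha : a ∈ K.ideal U) :
    (Z.presheaf.map (homOfLE h).op).hom a ∈ K.ideal U' :=
  (K.map_ideal (U := U') (V := U) h).le (Ideal.mem_map_of_mem _ ha)

theorem valEquiv_symm_res {U U' : Z.affineOpens} (h : U'.1 ≤ U.1) (a : K.ideal U) :
    (ClSub.idealMod K).presheaf.map (homOfLE h).op ((valEquiv K U).symm a) =
      (valEquiv K U').symm ⟨_, res_mem K h a.2⟩ := by
  refine val_injective K U'.1 ?_
  rw [val_valEquiv_symm, val_res, val_valEquiv_symm]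

theorem puSecLE_res' (M : Z.Modules) {U U' : Z.Opens} {W W' : Y.Opens} (h : W ≤ g ⁻¹ᵁ U) (h' : W' ≤ g ⁻¹ᵁ U')
    (hU : U' ≤ U) (hW : W' ≤ W) (m : Γ(M, U)) :
    (pb g M).presheaf.map (homOfLE hW).op (puSecLE g M h m) =
      puSecLE g M h' (M.presheaf.map (homOfLE hU).op m) := by
  rw [KFlatLib.puSecLE_apply, KFlatLib.puSecLE_apply, HilbObsLib.puSec_res g hU m,
    ← ConcreteCategory.comp_apply, ← ConcreteCategory.comp_apply, ← Functor.map_comp, ← Functor.map_comp]
  rfl

theorem sec_res {U U' : Z.affineOpens} {W W' : Y.Opens} (h : W ≤ g ⁻¹ᵁ U.1) (h' : W' ≤ g ⁻¹ᵁ U'.1)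
    (hU : U'.1 ≤ U.1) (hW : W' ≤ W) (a : K.ideal U) :
    (pb g (ClSub.idealMod K)).presheaf.map (homOfLE hW).op (sec g K h a) =
      sec g K h' ⟨_, res_mem K hU a.2⟩ := by
  show _ = puSecLE g _ h' ((valEquiv K U').symm _)
  rw [← valEquiv_symm_res K hU a]
  exact puSecLE_res' g _ h h' hU hW _

variable {ι : Type u} (U : ι → Z.affineOpens) (W : ι → Y.Opens) (hW : ∀ i, W i = g ⁻¹ᵁ (U i).1)

/-- The opens `U` are small enough along `Y`. -/
def Fine : Prop := ∀ (y : Y) (O : Z.Opens), g y ∈ O → ∃ i, g y ∈ (U i).1 ∧ (U i).1 ≤ O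

variable {g U W}

theorem Fine.isBasis (hfine : Fine g U) (hW : ∀ i, W i = g ⁻¹ᵁ (U i).1) : Opens.IsBasis (Set.range W) := by
  refine Opens.isBasis_iff_nbhd.mpr fun {O y} hy => ?_
  obtain ⟨O', hO', hOO'⟩ := g.isClosedEmbedding.isInducing.isOpen_iff.1 O.2
  obtain ⟨i, hi, hiO⟩ := hfine y ⟨O', hO'⟩ (hOO'.ge hy)
  refine ⟨W i, ⟨i, rfl⟩, ?_, ?_⟩
  · rw [hW]; exact hi
  · rw [hW]
    exact fun z hz => hOO'.le (hiO hz)

variable {K}

include hW in
/-- A homomorphism from a semilinear natural family. -/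
theorem exists_hom (hfine : Fine g U) (N : Y.Modules) (Φ : ∀ i, K.ideal (U i) →+ Γ(N, W i))
    (hsmul : ∀ i (r : Γ(Z, (U i).1)) (a : K.ideal (U i)),
      Φ i (r • a) = (g.appLE (U i).1 (W i) (hW i).le).hom r • Φ i a)
    (hres : ∀ i j (hU : (U j).1 ≤ (U i).1) (hWW : W j ≤ W i) (a : K.ideal (U i)),
      N.presheaf.map (homOfLE hWW).op (Φ i a) = Φ j ⟨_, res_mem K hU a.2⟩) :
    ∃ φ : pb g (ClSub.idealMod K) ⟶ N, ∀ i a, φ.app (W i) (sec g K (hW i).le a) = Φ i a := by
  let s := fun i => Function.surjInv (sec_closed g K (hW i)).1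
  have hs : ∀ i y, sec g K (hW i).le (s i y) = y := fun i => Function.surjInv_eq _
  have hkill : ∀ i a, sec g K (hW i).le a = 0 → Φ i a = 0 := fun i a ha => by
    have h := ((sec_closed g K (hW i)).2 a).1 ha
    have key : ∀ z ∈ RingHom.ker (g.appLE (U i).1 (W i) (hW i).le).hom * K.ideal (U i),
        ∃ hz : z ∈ K.ideal (U i), Φ i ⟨z, hz⟩ = 0 := by
      intro z hz
      refine Submodule.mul_induction_on hz (fun r hr p hp => ⟨Ideal.mul_mem_left _ r hp, ?_⟩) ?_
      · refine (congrArg (Φ i) (show (⟨r * p, _⟩ : K.ideal (U i)) = r • ⟨p, hp⟩ from rfl)).trans ?_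
        rw [hsmul, RingHom.mem_ker.1 hr, zero_smul]
      · rintro z z' ⟨hz, e⟩ ⟨hz', e'⟩
        refine ⟨add_mem hz hz', ?_⟩
        rw [show (⟨z + z', _⟩ : K.ideal (U i)) = ⟨z, hz⟩ + ⟨z', hz'⟩ from rfl, map_add, e, e', add_zero]
    exact (key _ h).2
  have hwd : ∀ i a, Φ i (s i (sec g K (hW i).le a)) = Φ i a := fun i a => by
    rw [← sub_eq_zero, ← map_sub]
    exact hkill i _ (by rw [map_sub, hs, sub_self])
  let Ψ : ∀ i, Γ(pb g (ClSub.idealMod K), W i) →+ Γ(N, W i) := fun i => AddMonoidHom.mk' (fun y => Φ i (s i y))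
    fun y y' => by
      obtain ⟨a, rfl⟩ := (sec_closed g K (hW i)).1 y
      obtain ⟨a', rfl⟩ := (sec_closed g K (hW i)).1 y'
      rw [← map_add, hwd, hwd, hwd, map_add]
  have hΨ : ∀ i a, Ψ i (sec g K (hW i).le a) = Φ i a := hwd
  suffices hh : (∀ (i j : ι) (h : W j ≤ W i) (m : Γ(pb g (ClSub.idealMod K), W i)),
      N.presheaf.map (homOfLE h).op (Ψ i m) = Ψ j ((pb g (ClSub.idealMod K)).presheaf.map (homOfLE h).op m)) ∧
      ∀ (i : ι) (r : Γ(Y, W i)) (m : Γ(pb g (ClSub.idealMod K), W i)), Ψ i (r • m) = r • Ψ i m by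
    obtain ⟨φ, hφ⟩ := EtTwoLib.exists_hom_of_basis W (hfine.isBasis hW) Ψ hh.1 hh.2
    exact ⟨φ, fun i a => (hφ i _).trans (hΨ i a)⟩
  refine ⟨fun i j h m => ?_, fun i r m => ?_⟩
  · obtain ⟨a, rfl⟩ := (sec_closed g K (hW i)).1 m
    rw [hΨ]
    refine ProjFormLib.section_ext _ _ fun y hy => ?_
    have hyU : ∀ l, y ∈ W l → g y ∈ (U l).1 := fun l hl => (hW l).le hl
    obtain ⟨l, hl, hlO⟩ := hfine y ((U i).1 ⊓ (U j).1) ⟨hyU i (h hy), hyU j hy⟩
    have hUi : (U l).1 ≤ (U i).1 := hlO.trans inf_le_left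
    have hUj : (U l).1 ≤ (U j).1 := hlO.trans inf_le_right
    have hWi : W l ≤ W i := by rw [hW, hW]; exact fun z hz => hUi hz
    have hWj : W l ≤ W j := by rw [hW, hW]; exact fun z hz => hUj hz
    have hyl : y ∈ W l := by rw [hW]; exact hl
    obtain ⟨b, hb⟩ := (sec_closed g K (hW j)).1
      ((pb g (ClSub.idealMod K)).presheaf.map (homOfLE h).op (sec g K (hW i).le a))
    rw [← ProjFormLib.ger_res N hWj y hyl, ← ProjFormLib.ger_res N hWj y hyl (Ψ j _)]
    congr 1
    show N.presheaf.map (homOfLE hWj).op _ = N.presheaf.map (homOfLE hWj).op _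
    rw [← hb, hΨ, hres j l hUj hWj b, ← ConcreteCategory.comp_apply, ← Functor.map_comp,
      show (homOfLE h).op ≫ (homOfLE hWj).op = (homOfLE hWi).op from rfl, hres i l hUi hWi a,
      ← hΨ, ← hΨ, ← sec_res g K (hW i).le (hW l).le hUi hWi, ← sec_res g K (hW j).le (hW l).le hUj hWj, hb,
      ← ConcreteCategory.comp_apply ((pb g (ClSub.idealMod K)).presheaf.map (homOfLE h).op), ← Functor.map_comp]
    rfl
  · obtain ⟨a, rfl⟩ := (sec_closed g K (hW i)).1 m
    obtain ⟨r, rfl⟩ : ∃ c, (g.appLE (U i).1 (W i) (hW i).le).hom c = r := by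
      have : ∀ (W' : Y.Opens) (e : W' = g ⁻¹ᵁ (U i).1),
          Function.Surjective (g.appLE (U i).1 W' e.le).hom := by
        intro W' e
        subst e
        rw [← Scheme.Hom.app_eq_appLE]
        exact Scheme.Hom.app_surjective g _ (U i).2
      exact this _ (hW i) r
    rw [← sec_smul, hΨ, hΨ, hsmul]

include hW in
theorem hom_ext (hfine : Fine g U) {N : Y.Modules} {φ ψ : pb g (ClSub.idealMod K) ⟶ N}
    (h : ∀ i a, φ.app (W i) (sec g K (hW i).le a) = ψ.app (W i) (sec g K (hW i).le a)) : φ = ψ := by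
  refine EtTwoLib.hom_ext_basis W (hfine.isBasis hW) fun i m => ?_
  obtain ⟨a, rfl⟩ := (sec_closed g K (hW i)).1 m
  exact h i a

end HilbObsTh
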