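import Groth.Agent.HilbObsTh.Obs
import Groth.Agent.HilbObsTh.Cover
import Groth.Agent.HilbSmoothLib.Transport
import Groth.Agent.HilbGlueLib.NormalCoh
import Groth.Agent.LinearizedSSLib.Main
import Groth.Agent.CurvLib.Euler

/-!
# The obstruction space `H¹(N)` of a regular embedding of a proper scheme
-/

set_option autoImplicit false
set_option linter.style.haveILetI false
set_option linter.unusedSectionVars false
set_option backward.isDefEq.respectTransparency false
set_option backward.isDefEq.respectTransparency.types false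
set_option maxHeartbeats 1000000
universe u

open CategoryTheory CategoryTheory.Limits AlgebraicGeometry

noncomputable section

namespace HilbObsTh

/-- The normal sheaf of the image is the pullback of the normal sheaf. -/
theorem nonempty_normal_image {X Y : Scheme.{u}} (i : Y ⟶ X) [IsClosedImmersion i]
    [DCoh.HasSheafHom (Omega.conormal i)] [DCoh.HasSheafHom (Omega.conormal i.ker.subschemeι)] :
    Nonempty ((DCoh.sheafHom (Omega.conormal i.ker.subschemeι)).obj (Coh.structureModule i.ker.subscheme) ≅
      (Scheme.Modules.pullback (inv i.toImage)).obj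
        ((DCoh.sheafHom (Omega.conormal i)).obj (Coh.structureModule Y))) := by
  haveI : IsIso i.toImage := inferInstance
  let e : i.ker.subscheme ⟶ Y := inv i.toImage
  have he : e ≫ i = i.ker.subschemeι := by
    rw [IsIso.inv_comp_eq]
    exact i.toImage_imageι.symm
  let C := Omega.conormal i
  let C' := Omega.conormal i.ker.subschemeι
  let c : C.restrict e ≅ C' := (Scheme.Modules.restrictFunctorIsoPullback e).app C ≪≫
    (Scheme.Modules.pullbackComp e i).app _ ≪≫ (Scheme.Modules.pullbackCongr he).app _ ≪≫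
    (Scheme.Modules.pullback i.ker.subschemeι).mapIso (eqToIso (congrArg ClSub.idealMod i.ker.ker_subschemeι.symm))
  obtain ⟨o⟩ : Nonempty ((Coh.structureModule Y).restrict e ≅ Coh.structureModule i.ker.subscheme) :=
    MiscFlat6.nonempty_restrict_structureModule e
  let a : PnDualLib.homFun (C.restrict e) ≅ DCoh.sheafHom C' :=
    ((HomCohLib.homAdj (C.restrict e)).ofNatIsoLeft ((DCoh.tensorBi (X := i.ker.subscheme)).mapIso c)).rightAdjointUniq
      (DCoh.sheafHomAdj C')
  exact ⟨(a.app _).symm ≪≫ (PnDualLib.homFun (C.restrict e)).mapIso o.symm ≪≫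
      (asIso (Groth.Agent.HomRestrLib.restrHom e C (Coh.structureModule Y))).symm ≪≫
      (Scheme.Modules.restrictFunctorIsoPullback e).app _ ≪≫
      (Scheme.Modules.pullback e).mapIso (HomCohLib.sheafHomIso (M := C) (Coh.structureModule Y)).symm⟩

theorem regular_image {X Y : Scheme.{u}} (i : Y ⟶ X) [IsClosedImmersion i] (hreg : Mor2.IsRegularClosedImmersion i) :
    Mor2.IsRegularClosedImmersion i.ker.subschemeι := by
  have he : inv i.toImage ≫ i = i.ker.subschemeι := by
    rw [IsIso.inv_comp_eq]
    exact i.toImage_imageι.symm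
  refine ⟨inferInstance, fun w => ?_⟩
  obtain ⟨U, hU, hz, rs, hrs, hker⟩ := hreg.2 ((inv i.toImage).base w)
  refine ⟨U, hU, ?_, rs, hrs, ?_⟩
  · rw [← he]; exact hz
  · rw [Scheme.IdealSheafData.ker_subschemeι]; exact hker

/-- An obstruction theory with values in a space of dimension `h¹(N)`. -/
theorem exists_obsTheory {k : Type u} [Field k] {X Y : Scheme.{u}} (f : X ⟶ Spec (CommRingCat.of k))
    [LocallyOfFiniteType f] [Y.Over (Spec (CommRingCat.of k))] [IsProper (Y ↘ Spec (CommRingCat.of k))]
    (i : Y ⟶ X) [IsClosedImmersion i] (hi : i ≫ f = Y ↘ Spec (CommRingCat.of k))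
    (hreg : Mor2.IsRegularClosedImmersion i) [DCoh.HasSheafHom (Omega.conormal i)] :
    ∃ (V : Type u) (_ : AddCommGroup V) (_ : Module k V),
      Module.Finite k V ∧ Nonempty (ArtFun.ObsTheory (ArtFun.localHilb X f i.ker) V) ∧
      Module.finrank k V =
        Module.finrank k (Coh.HH Y ((DCoh.sheafHom (Omega.conormal i)).obj (Coh.structureModule Y)) 1) := by
  haveI : IsLocallyNoetherian X := LocallyOfFiniteType.isLocallyNoetherian f
  haveI : IsLocallyNoetherian Y := LocallyOfFiniteType.isLocallyNoetherian (Y ↘ Spec (CommRingCat.of k))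
  haveI : DCoh.HasSheafHom (Omega.conormal i.ker.subschemeι) := CohCmpLib.hasSheafHom _
  haveI : IsIso i.toImage := inferInstance
  letI : i.ker.subscheme.Over (Spec (CommRingCat.of k)) := ⟨i.ker.subschemeι ≫ f⟩
  have hσ : inv i.toImage ≫ (Y ↘ Spec (CommRingCat.of k)) = i.ker.subscheme ↘ Spec (CommRingCat.of k) := by
    show _ = i.ker.subschemeι ≫ f
    rw [← hi, IsIso.inv_comp_eq, ← Category.assoc]
    exact congrArg (· ≫ f) i.toImage_imageι.symm
  haveI : IsProper (i.ker.subscheme ↘ Spec (CommRingCat.of k)) := by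
    rw [← hσ]
    infer_instance
  haveI : IsLocallyNoetherian i.ker.subscheme :=
    LocallyOfFiniteType.isLocallyNoetherian (i.ker.subscheme ↘ Spec (CommRingCat.of k))
  let N := (DCoh.sheafHom (Omega.conormal i)).obj (Coh.structureModule Y)
  let N' := (DCoh.sheafHom (Omega.conormal i.ker.subschemeι)).obj (Coh.structureModule i.ker.subscheme)
  have hN' : Coh.IsCoh N' := HilbGlueLib.isCoh_normal i.ker
  obtain ⟨T⟩ := hasObsTheory X f i.ker (regular_image i hreg)
  refine ⟨Coh.HH i.ker.subscheme N' 1, inferInstance, Coh.moduleOver k _ _ 1,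
    CurvLib.finite_HH (k := k) hN' 1, ⟨T⟩, ?_⟩
  obtain ⟨t⟩ := nonempty_normal_image i
  haveI : Coh.IsQCoh N := by
    have hC : Coh.IsCoh (Omega.conormal i) := ConsLib.isCoh_pullback _ (SurfExtLib.isCoh_idealMod _)
    exact (QCohLib.isCoh_of_iso (HomCohLib.sheafHomIso (M := Omega.conormal i) _).symm
      (HomCohLib.isCoh_homMod hC (DevissLib.isCoh_structureModule _))).1
  haveI : Coh.IsQCoh ((Scheme.Modules.pullback (inv i.toImage)).obj N) := KFlatLib.isQCoh_pullback _ _
  rw [← LinearizedSSLib.finrank_HH_of_iso (inv i.toImage) hσ N 1]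
  exact (PnDualLib.hMapIso (k := k) t 1).finrank_eq

end HilbObsTh
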